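import Mathlib.AlgebraicGeometry.Morphisms.UniversallyOpen
import Mathlib.AlgebraicGeometry.Morphisms.Proper
import Mathlib.AlgebraicGeometry.Fiber
import Mathlib.AlgebraicGeometry.FunctionField
import Groth.Prelude.Def_Pi1

/-!
# Schemes over a normal domain controlled by their generic fibre
-/

set_option backward.isDefEq.respectTransparency false
set_option backward.isDefEq.respectTransparency.types false

universe u

open CategoryTheory CategoryTheory.Limits AlgebraicGeometry


namespace GrothLib.ProperFib19

variable (R K : Type u) [CommRing R] [IsDomain R] [Field K] [Algebra R K] [IsFractionRing R K]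

/-- The generic point of `Spec R`, as a morphism. -/
noncomputable abbrev genMap : Spec (CommRingCat.of K) ⟶ Spec (CommRingCat.of R) :=
  Spec.map (CommRingCat.ofHom (algebraMap R K))

lemma genMap_default : (genMap R K).base default = genericPoint (Spec (CommRingCat.of R)) := by
  rw [genericPoint_eq_bot_of_affine]
  refine PrimeSpectrum.ext ?_
  have hd : ((default : Spec (CommRingCat.of K)) : PrimeSpectrum K).asIdeal = ⊥ :=
    (Ideal.eq_bot_or_top _).resolve_right (default : Spec (CommRingCat.of K)).isPrime.ne_top
  refine Eq.trans (congrArg (Ideal.comap (algebraMap R K)) hd) ?_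
  exact Ideal.comap_bot_of_injective _ (IsFractionRing.injective R K)

lemma isNormalScheme_spec [IsIntegrallyClosed R] : Pi1.IsNormalScheme (Spec (CommRingCat.of R)) := fun x => by
  have : IsIntegrallyClosed (Localization.AtPrime x.asIdeal) :=
    isIntegrallyClosed_of_isLocalization _ x.asIdeal.primeCompl x.asIdeal.primeCompl_le_nonZeroDivisors
  exact ⟨inferInstance, IsIntegrallyClosed.of_equiv
    (IsLocalization.algEquiv x.asIdeal.primeCompl (Localization.AtPrime x.asIdeal)
      ((Spec.structureSheaf R).presheaf.stalk x)).toRingEquiv⟩

variable {X : Scheme.{u}} (f : X ⟶ Spec (CommRingCat.of R))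

/-- The generic fibre. -/
noncomputable abbrev genFibre : Scheme.{u} := pullback f (genMap R K)

/-- An open reduced scheme over a domain with irreducible generic fibre is integral. -/
theorem isIntegral_of_generic [IsReduced X] (ho : IsOpenMap f.base)
    [IrreducibleSpace ↥(genFibre R K f)] : IsIntegral X := by
  have hd : Dense (Set.range (pullback.fst f (genMap R K)).base) := by
    rw [dense_iff_inter_open]
    intro U hU hUne
    rw [Scheme.Pullback.range_fst]
    obtain ⟨x, hxU, hx⟩ := ((genericPoint_spec (Spec (CommRingCat.of R))).mem_open_set_iff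
      (ho U hU)).2 (by simpa using hUne.image f.base)
    exact ⟨x, hxU, default, (genMap_default R K).trans hx.symm⟩
  have h1 : IsPreirreducible (Set.univ : Set X) := by
    rw [← hd.closure_eq, ← Set.image_univ]
    exact ((IrreducibleSpace.isIrreducible_univ ↥(genFibre R K f)).2.image _
      (pullback.fst f (genMap R K)).continuous.continuousOn).closure
  have : Nonempty X := ⟨(pullback.fst f (genMap R K)).base (Classical.arbitrary _)⟩
  have : IrreducibleSpace X := { isPreirreducible_univ := h1, toNonempty := this }
  exact isIntegral_of_irreducibleSpace_of_isReduced _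

/-- Global functions of the fibre over the generic point from those of the generic fibre. -/
theorem bijective_appTop_generic (h : Function.Bijective (pullback.snd f (genMap R K)).appTop) :
    Function.Bijective (f.fiberToSpecResidueField (genericPoint (Spec (CommRingCat.of R)))).appTop := by
  let η := genericPoint (Spec (CommRingCat.of R))
  obtain ⟨⟨x, φ⟩, hxφ⟩ := (Scheme.SpecToEquivOfField K (Spec (CommRingCat.of R))).symm.surjective (genMap R K)
  change Spec.map φ ≫ (Spec (CommRingCat.of R)).fromSpecResidueField x = genMap R K at hxφ
  obtain rfl : x = η := by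
    change x = genericPoint _
    rw [← genMap_default R K, ← hxφ]
    exact ((Scheme.Hom.comp_apply _ _ _).trans (Scheme.fromSpecResidueField_apply _ _)).symm
  obtain ⟨φ₀, hφ₀⟩ := Spec.map_surjective ((Spec (CommRingCat.of R)).fromSpecResidueField η)
  have hcomm : φ₀ ≫ φ = CommRingCat.ofHom (algebraMap R K) := by
    apply Spec.map_injective
    rw [Spec.map_comp, hφ₀, hxφ]
  have hsurj : Function.Surjective φ.hom := fun z => by
    obtain ⟨a, b, -, rfl⟩ := IsFractionRing.div_surjective (A := R) z
    exact ⟨φ₀ a / φ₀ b, by rw [map_div₀]; congr 1 <;> exact ConcreteCategory.congr_hom hcomm _⟩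
  have : IsIso φ := (ConcreteCategory.isIso_iff_bijective φ).2 ⟨RingHom.injective φ.hom, hsurj⟩
  let g := f.fiberToSpecResidueField η
  have hp : IsPullback (pullback.fst g (Spec.map φ) ≫ pullback.fst f _) (pullback.snd g (Spec.map φ)) f
      (genMap R K) := by
    rw [← hxφ]
    exact (IsPullback.of_hasPullback g (Spec.map φ)).paste_horiz (IsPullback.of_hasPullback f _)
  let e := hp.isoPullback
  have he : pullback.snd g (Spec.map φ) = e.hom ≫ pullback.snd f (genMap R K) := hp.isoPullback_hom_snd.symm
  have h1 : IsIso (pullback.snd f (genMap R K)).appTop := (ConcreteCategory.isIso_iff_bijective _).2 h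
  have h2 : IsIso (pullback.snd g (Spec.map φ)).appTop := by
    rw [he, Scheme.Hom.comp_appTop]
    infer_instance
  have h3 : g = inv (pullback.fst g (Spec.map φ)) ≫ pullback.snd g (Spec.map φ) ≫ Spec.map φ := by
    rw [← pullback.condition, IsIso.inv_hom_id_assoc]
  have : IsIso g.appTop := by
    rw [h3, Scheme.Hom.comp_appTop, Scheme.Hom.comp_appTop]
    infer_instance
  exact ConcreteCategory.bijective_of_isIso g.appTop

end GrothLib.ProperFib19
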