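import Mathlib.FieldTheory.PurelyInseparable.Basic
import Mathlib.FieldTheory.IsAlgClosed.AlgebraicClosure
import Mathlib.RingTheory.IntegralClosure.IntegrallyClosed
import Mathlib.RingTheory.Spectrum.Prime.RingHom

/-!
# Integral extensions of normal domains with at most one geometric generic point
-/

universe u

namespace GrothLib.ProperFib19

variable {A B : Type u} [CommRing A] [CommRing B] [IsDomain A] [IsDomain B] [Algebra A B]

theorem exists_pow_mem [IsIntegrallyClosed A] [Algebra.IsIntegral A B]
    (hinj : Function.Injective (algebraMap A B))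
    (h : ∀ (Ω : Type u) [Field Ω] [IsAlgClosed Ω] (φ ψ : B →+* Ω), Function.Injective φ →
      Function.Injective ψ → φ.comp (algebraMap A B) = ψ.comp (algebraMap A B) → φ = ψ) (b : B) :
    ∃ q : ℕ, 0 < q ∧ b ^ q ∈ Set.range (algebraMap A B) := by
  let K := FractionRing A
  let L := FractionRing B
  have hAL : Function.Injective ((algebraMap B L).comp (algebraMap A B)) :=
    (IsFractionRing.injective B L).comp hinj
  let : Algebra K L := (IsFractionRing.lift hAL : K →+* L).toAlgebra
  have : IsScalarTower A K L := IsScalarTower.of_algebraMap_eq fun a => by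
    rw [RingHom.algebraMap_toAlgebra, IsFractionRing.lift_algebraMap]
    exact IsScalarTower.algebraMap_apply A B L a
  have halg : ∀ x : B, IsAlgebraic K (algebraMap B L x) := fun x =>
    ((Algebra.IsIntegral.isIntegral (R := A) x).map (IsScalarTower.toAlgHom A B L)).tower_top.isAlgebraic
  have : Algebra.IsAlgebraic K L := ⟨fun z => by
    obtain ⟨x, y, -, rfl⟩ := IsFractionRing.div_surjective (A := B) z
    rw [← mem_algebraicClosure_iff]
    exact div_mem (mem_algebraicClosure_iff.2 (halg x)) (mem_algebraicClosure_iff.2 (halg y))⟩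
  let Ω := AlgebraicClosure L
  have hone : Field.finSepDegree K L = 1 := by
    rw [Field.finSepDegree_eq_of_isAlgClosed K L Ω, Nat.card_eq_one_iff_unique]
    refine ⟨⟨fun φ ψ => ?_⟩, ⟨IsScalarTower.toAlgHom K L Ω⟩⟩
    have key := h Ω (φ.toRingHom.comp (algebraMap B L)) (ψ.toRingHom.comp (algebraMap B L))
      (φ.toRingHom.injective.comp (IsFractionRing.injective B L))
      (ψ.toRingHom.injective.comp (IsFractionRing.injective B L)) (RingHom.ext fun a => by
        change φ (algebraMap B L (algebraMap A B a)) = ψ (algebraMap B L (algebraMap A B a))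
        rw [← IsScalarTower.algebraMap_apply A B L, IsScalarTower.algebraMap_apply A K L,
          φ.commutes, ψ.commutes])
    exact AlgHom.coe_ringHom_injective (IsLocalization.ringHom_ext (nonZeroDivisors B) key)
  have : IsPurelyInseparable K L := (isPurelyInseparable_iff_finSepDegree_eq_one K L).2 hone
  obtain ⟨e, y, hy⟩ := IsPurelyInseparable.pow_mem K (ringExpChar K) (algebraMap B L b)
  refine ⟨ringExpChar K ^ e, pow_pos (expChar_pos K (ringExpChar K)) e, ?_⟩
  have hint : IsIntegral A y := by
    rw [← isIntegral_algebraMap_iff (algebraMap K L).injective, hy, ← map_pow]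
    exact (Algebra.IsIntegral.isIntegral (R := A) _).map (IsScalarTower.toAlgHom A B L)
  obtain ⟨a, ha⟩ := IsIntegrallyClosed.algebraMap_eq_of_integral hint
  refine ⟨a, IsFractionRing.injective B L ?_⟩
  rw [map_pow, ← hy, ← ha, ← IsScalarTower.algebraMap_apply A B L, IsScalarTower.algebraMap_apply A K L]

theorem comap_injective [IsIntegrallyClosed A] [Algebra.IsIntegral A B]
    (hinj : Function.Injective (algebraMap A B))
    (h : ∀ (Ω : Type u) [Field Ω] [IsAlgClosed Ω] (φ ψ : B →+* Ω), Function.Injective φ →
      Function.Injective ψ → φ.comp (algebraMap A B) = ψ.comp (algebraMap A B) → φ = ψ) :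
    Function.Injective (PrimeSpectrum.comap (algebraMap A B)) := by
  suffices ∀ P P' : PrimeSpectrum B, P.comap (algebraMap A B) = P'.comap (algebraMap A B) →
      P.asIdeal ≤ P'.asIdeal from fun P P' e =>
    PrimeSpectrum.ext (le_antisymm (this P P' e) (this P' P e.symm))
  intro P P' e b hb
  obtain ⟨q, hq, a, ha⟩ := exists_pow_mem hinj h b
  have h1 : a ∈ (P.comap (algebraMap A B)).asIdeal := by
    change algebraMap A B a ∈ P.asIdeal
    rw [ha]
    exact P.asIdeal.pow_mem_of_mem hb q hq
  rw [e] at h1
  refine P'.isPrime.mem_of_pow_mem q ?_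
  rw [← ha]
  exact h1

end GrothLib.ProperFib19
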