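import Mathlib.AlgebraicGeometry.Morphisms.Proper
import Mathlib.AlgebraicGeometry.Fiber
import Mathlib.FieldTheory.IsAlgClosed.AlgebraicClosure
import Mathlib.AlgebraicGeometry.Morphisms.Integral

/-!
# A fibre which is geometrically proper is closed in any separated compactification
-/

set_option backward.isDefEq.respectTransparency false
set_option backward.isDefEq.respectTransparency.types false

universe u

open CategoryTheory CategoryTheory.Limits AlgebraicGeometry

namespace GrothLib.ProperFib19

variable {X Xc Y : Scheme.{u}} (j : X ⟶ Xc) [IsOpenImmersion j] (g : Xc ⟶ Y) [IsSeparated g]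

theorem isClosed_fiberι_preimage_range (f : X ⟶ Y) (hf : j ≫ g = f) (y : Y)
    (hP : IsProper (pullback.snd f
      (Spec.map (CommRingCat.ofHom (algebraMap (Y.residueField y) (AlgebraicClosure (Y.residueField y)))) ≫
        Y.fromSpecResidueField y))) :
    IsClosed ((g.fiberι y).base ⁻¹' Set.range j.base) := by
  let Ω := AlgebraicClosure (Y.residueField y)
  let u := Spec.map (CommRingCat.ofHom (algebraMap (Y.residueField y) Ω))
  let η := u ≫ Y.fromSpecResidueField y
  have : IsIntegralHom u := IsIntegralHom.SpecMap_iff.2 (algebraMap_isIntegral_iff.2 inferInstance)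
  have : Surjective u := ⟨fun z => ⟨default, Subsingleton.elim _ _⟩⟩
  let gy := g.fiberToSpecResidueField y
  let Q := pullback gy u
  let a : Q ⟶ g.fiber y := pullback.fst gy u
  have hsq : g.fiberι y ≫ g = gy ≫ Y.fromSpecResidueField y := pullback.condition
  let l : pullback f η ⟶ g.fiber y :=
    pullback.lift (pullback.fst f η ≫ j) (pullback.snd f η ≫ u) (by
      rw [Category.assoc, hf, pullback.condition, Category.assoc])
  have hl : l ≫ g.fiberι y = pullback.fst f η ≫ j := pullback.lift_fst _ _ _
  have hl2 : l ≫ gy = pullback.snd f η ≫ u := pullback.lift_snd _ _ _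
  let m : pullback f η ⟶ Q := pullback.lift l (pullback.snd f η) (pullback.lift_snd _ _ _)
  have : IsSeparated gy := MorphismProperty.pullback_snd _ _ inferInstance
  have : IsProper (m ≫ pullback.snd gy u) := by
    rw [pullback.lift_snd]
    exact hP
  have : IsProper m := IsProper.of_comp m (pullback.snd gy u)
  let C := (g.fiberι y).base ⁻¹' Set.range j.base
  have hC : a.base ⁻¹' C = Set.range m.base := by
    ext q
    constructor
    · intro hq
      let ρ := Q.fromSpecResidueField q
      have hsub : Set.range (ρ ≫ a ≫ g.fiberι y).base ⊆ Set.range j.base := by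
        rintro - ⟨z, rfl⟩
        change (g.fiberι y).base (a.base (ρ.base z)) ∈ Set.range j.base
        rw [Scheme.fromSpecResidueField_apply]
        exact hq
      let σ := IsOpenImmersion.lift j (ρ ≫ a ≫ g.fiberι y) hsub
      have hσ : σ ≫ j = ρ ≫ a ≫ g.fiberι y := IsOpenImmersion.lift_fac _ _ _
      let p : Spec (Q.residueField q) ⟶ pullback f η :=
        pullback.lift σ (ρ ≫ pullback.snd gy u) (by
          rw [← hf, reassoc_of% hσ, hsq, pullback.condition_assoc, Category.assoc])
      have hp : p ≫ m = ρ := by
        apply pullback.hom_ext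
        · rw [Category.assoc, pullback.lift_fst]
          apply pullback.hom_ext
          · change (p ≫ l) ≫ g.fiberι y = (ρ ≫ a) ≫ g.fiberι y
            rw [Category.assoc, hl, pullback.lift_fst_assoc, hσ, Category.assoc]
          · change (p ≫ l) ≫ gy = (ρ ≫ a) ≫ gy
            rw [Category.assoc, hl2, pullback.lift_snd_assoc, Category.assoc,
              Category.assoc, pullback.condition]
        · rw [Category.assoc, pullback.lift_snd, pullback.lift_snd]
      refine ⟨p.base (IsLocalRing.closedPoint (Q.residueField q)), ?_⟩
      rw [← Scheme.Hom.comp_apply, hp]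
      exact Scheme.fromSpecResidueField_apply _ _
    · rintro ⟨p, rfl⟩
      refine ⟨(pullback.fst f η).base p, ?_⟩
      rw [← Scheme.Hom.comp_apply, ← Scheme.Hom.comp_apply, ← Scheme.Hom.comp_apply,
        pullback.lift_fst_assoc, hl]
  have ha : UniversallyClosed a := MorphismProperty.pullback_fst gy u (inferInstance : UniversallyClosed u)
  have hs : Surjective a := MorphismProperty.pullback_fst gy u (inferInstance : Surjective u)
  have hsurj : Function.Surjective a.base := hs.surj
  have hclosed : IsClosedMap a.base := a.isClosedMap
  have := hclosed _ m.isClosedMap.isClosed_range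
  rwa [← hC, Set.image_preimage_eq _ hsurj] at this

end GrothLib.ProperFib19
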