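import Mathlib.CategoryTheory.Monoidal.Cartesian.Grp

/-!
# Transfer of a group structure along a fully faithful restriction
-/

universe v₁ v₂ u₁ u₂

open CategoryTheory MonoidalCategory CartesianMonoidalCategory MonObj

namespace GrothLib.ProperFib19

variable {C : Type u₁} [Category.{v₁} C] [CartesianMonoidalCategory C]
  {D : Type u₂} [Category.{v₂} D] [CartesianMonoidalCategory D]

/-- If restriction `Hom(Y, N) → Hom(F Y, A)` is bijective for the objects of a class closed under finite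
products, a group structure on `A` gives one on `N`. -/
theorem nonempty_grpObj (F : C ⥤ D) {N : C} {A : D} [GrpObj A] (e : F.obj N ≅ A) (P : C → Prop)
    (hN : P N) (h1 : P (𝟙_ C)) (hP : ∀ X Y, P X → P Y → P (X ⊗ Y))
    (hbij : ∀ Y, P Y → Function.Bijective (fun g : Y ⟶ N => F.map g ≫ e.hom)) :
    Nonempty (GrpObj N) := by
  let Φ : ∀ Y, (Y ⟶ N) → (F.obj Y ⟶ A) := fun Y g => F.map g ≫ e.hom
  have hinj : ∀ Y, P Y → ∀ a b : Y ⟶ N, Φ Y a = Φ Y b → a = b := fun Y hY a b h => (hbij Y hY).1 h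
  have hcomp : ∀ {Y Y' : C} (h : Y' ⟶ Y) (g : Y ⟶ N), Φ Y' (h ≫ g) = F.map h ≫ Φ Y g := fun h g => by
    simp [Φ]
  obtain ⟨m, hm⟩ := (hbij (N ⊗ N) (hP _ _ hN hN)).2 (Φ _ (fst N N) * Φ _ (snd N N))
  obtain ⟨o, ho⟩ := (hbij (𝟙_ C) h1).2 1
  obtain ⟨i, hi⟩ := (hbij N hN).2 (Φ _ (𝟙 N))⁻¹
  have hmul : ∀ {Y : C} (a b : Y ⟶ N), Φ Y (lift a b ≫ m) = Φ Y a * Φ Y b := fun a b => by
    rw [hcomp, show Φ _ m = _ from hm, MonObj.comp_mul, ← hcomp, ← hcomp, lift_fst, lift_snd]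
  have hone : ∀ {Y : C} (t : Y ⟶ 𝟙_ C), Φ Y (t ≫ o) = 1 := fun t => by
    rw [hcomp, show Φ _ o = _ from ho, MonObj.comp_one]
  have hinv : ∀ {Y : C} (a : Y ⟶ N), Φ Y (a ≫ i) = (Φ Y a)⁻¹ := fun a => by
    rw [hcomp, show Φ _ i = _ from hi, GrpObj.comp_inv, ← hcomp, Category.comp_id]
  refine ⟨{ one := o, mul := m, inv := i, one_mul := ?_, mul_one := ?_, mul_assoc := ?_,
            left_inv := ?_, right_inv := ?_ }⟩
  · refine hinj _ (hP _ _ h1 hN) _ _ ?_
    rw [show o ▷ N = lift (fst _ _ ≫ o) (snd _ _) from CartesianMonoidalCategory.hom_ext _ _ (by simp) (by simp),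
      hmul, hone, _root_.one_mul, leftUnitor_hom]
  · refine hinj _ (hP _ _ hN h1) _ _ ?_
    rw [show N ◁ o = lift (fst _ _) (snd _ _ ≫ o) from CartesianMonoidalCategory.hom_ext _ _ (by simp) (by simp),
      hmul, hone, _root_.mul_one, rightUnitor_hom]
  · refine hinj _ (hP _ _ (hP _ _ hN hN) hN) _ _ ?_
    rw [show m ▷ N = lift (lift (fst _ _ ≫ fst _ _) (fst _ _ ≫ snd _ _) ≫ m) (snd _ _) from
        CartesianMonoidalCategory.hom_ext _ _ (by simp [← comp_lift]) (by simp),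
      show (α_ N N N).hom ≫ N ◁ m ≫ m =
          lift (fst _ _ ≫ fst _ _) (lift (fst _ _ ≫ snd _ _) (snd _ _) ≫ m) ≫ m from by
        rw [← Category.assoc]
        congr 1
        refine CartesianMonoidalCategory.hom_ext _ _ (by simp) ?_
        rw [lift_snd, Category.assoc, whiskerLeft_snd, ← Category.assoc]
        congr 1
        exact CartesianMonoidalCategory.hom_ext _ _ (by simp) (by simp),
      hmul, hmul, hmul, hmul, _root_.mul_assoc]
  · refine hinj _ hN _ _ ?_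
    rw [hmul, hone, show Φ N i = (Φ N (𝟙 N))⁻¹ from hi, inv_mul_cancel]
  · refine hinj _ hN _ _ ?_
    rw [hmul, hone, show Φ N i = (Φ N (𝟙 N))⁻¹ from hi, mul_inv_cancel]

end GrothLib.ProperFib19
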