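import Groth.Agent.Lib.ProperFib19.Alg
import Groth.Agent.Lib.ProperFib19.Fibre
import Groth.Agent.Lib.Nagata6.Absolute
import Groth.Agent.Lib.Stein.General
import Groth.Agent.Lib.Stein.Finite
import Groth.Agent.Lib.NormalExt.Basic
import Groth.Prelude.Def_Pi1
import Mathlib.AlgebraicGeometry.AlgClosed.Basic

/-!
# Properness from geometrically proper fibres over a normal base, generic fibre connected
-/

set_option backward.isDefEq.respectTransparency false
set_option backward.isDefEq.respectTransparency.types false

universe u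

open CategoryTheory CategoryTheory.Limits AlgebraicGeometry

namespace GrothLib.ProperFib19

variable {X Y : Scheme.{u}}

lemma isReduced_image {W : Scheme.{u}} (f : X ⟶ W) [IsReduced X] [QuasiCompact f] : IsReduced f.image := by
  let V : W.affineOpens → f.image.Opens := fun U => f.imageι ⁻¹ᵁ U.1
  have hV : iSup V = ⊤ := by
    rw [eq_top_iff]
    intro x _
    obtain ⟨U, hU, hx, -⟩ := exists_isAffineOpen_mem_and_subset (U := ⊤) (x := f.imageι x) trivial
    exact TopologicalSpace.Opens.mem_iSup.2 ⟨⟨U, hU⟩, hx⟩
  have hred : ∀ U, IsReduced (V U).toScheme := fun U => by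
    have : IsAffine (V U).toScheme := U.2.preimage f.imageι
    have : _root_.IsReduced Γ(f.image, V U) :=
      isReduced_of_injective (f.toImage.app (V U)).hom (f.toImage_app_injective U)
    have : _root_.IsReduced Γ((V U).toScheme, ⊤) :=
      isReduced_of_injective (V U).topIso.hom.hom (ConcreteCategory.bijective_of_isIso (V U).topIso.hom).1
    exact isReduced_of_isAffine_isReduced _
  have : ∀ i, IsReduced ((f.image.openCoverOfIsOpenCover V (.mk hV)).X i) := hred
  exact IsReduced.of_openCover _ (f.image.openCoverOfIsOpenCover V (.mk hV))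

/-- A finite scheme over an algebraically closed field with connected space has one rational point. -/
lemma eq_of_sections {Ω : Type u} [Field Ω] [IsAlgClosed Ω] {Q : Scheme.{u}}
    (h : Q ⟶ Spec (CommRingCat.of Ω)) [IsFinite h] [PreconnectedSpace Q]
    {a b : Spec (CommRingCat.of Ω) ⟶ Q} (ha : a ≫ h = 𝟙 _) (hb : b ≫ h = 𝟙 _) : a = b := by
  have hd : _root_.IsDiscrete (Set.univ : Set Q) := by
    have h1 : h.base ⁻¹' {default} = Set.univ :=
      Set.eq_univ_of_forall fun z => Subsingleton.elim (h.base z) default
    rw [← h1]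
    exact h.isDiscrete_preimage_singleton default
  have : DiscreteTopology Q := isDiscrete_univ_iff.1 hd
  refine ext_of_apply_closedPoint_eq h ha hb ?_
  exact (PreconnectedSpace.trivial_of_discrete (X := Q)).elim _ _

theorem isProper_of_geometric_fibres (f : X ⟶ Y) [IsSeparated f] [LocallyOfFiniteType f] [QuasiCompact f]
    [IsIntegral X] [IsIntegral Y] [IsNoetherian Y] (hY : Pi1.IsNormalScheme Y)
    (hne : ∀ y : Y, ∃ x : X, f.base x = y)
    (hprop : ∀ (Ω : Type u) [Field Ω] [IsAlgClosed Ω] (y : Spec (CommRingCat.of Ω) ⟶ Y),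
      IsProper (pullback.snd f y))
    (hconn : ∀ (Ω : Type u) [Field Ω] [IsAlgClosed Ω] (y : Spec (CommRingCat.of Ω) ⟶ Y),
      y.base default = genericPoint Y → PreconnectedSpace ↥(pullback f y)) :
    IsProper f := by
  obtain ⟨X₀, j₀, g₀, hj₀, hqc₀, hg₀, hfac⟩ := GrothLib.Nagata6.exists_compactification f
  let Xc := j₀.image
  let j : X ⟶ Xc := j₀.toImage
  let g : Xc ⟶ Y := j₀.imageι ≫ g₀
  have hf : j ≫ g = f := by rw [j₀.toImage_imageι_assoc, hfac]
  have : IsReduced Xc := isReduced_image j₀
  have hdense : DenseRange j.base := j.denseRange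
  have : IrreducibleSpace Xc := by
    have h1 : IsPreirreducible (Set.univ : Set Xc) := by
      rw [← hdense.closure_range, ← Set.image_univ]
      exact ((IrreducibleSpace.isIrreducible_univ X).2.image _ j.continuous.continuousOn).closure
    exact { isPreirreducible_univ := h1, toNonempty := ⟨j.base (Classical.arbitrary X)⟩ }
  have : IsIntegral Xc := isIntegral_of_irreducibleSpace_of_isReduced _
  have hclosed : ∀ y : Y, IsClosed ((g.fiberι y).base ⁻¹' Set.range j.base) := fun y =>
    isClosed_fiberι_preimage_range j g f hf y (hprop _ _)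
  let η₀ := genericPoint Y
  have hgξ : g.base (genericPoint Xc) = η₀ := by
    have hsurj : Function.Surjective g.base := fun y => by
      obtain ⟨x, hx⟩ := hne y
      exact ⟨j.base x, by rw [← Scheme.Hom.comp_apply, hf, hx]⟩
    have h1 := (genericPoint_spec Xc).image g.continuous
    rw [Set.image_univ, hsurj.range_eq, closure_univ] at h1
    exact h1.eq (genericPoint_spec Y)
  have hgen : g.base ⁻¹' {η₀} ⊆ Set.range j.base := by
    intro x hx
    obtain ⟨z, rfl⟩ := (g.range_fiberι η₀).ge hx
    obtain ⟨z₀, hz₀⟩ := (g.range_fiberι η₀).ge (show genericPoint Xc ∈ g.base ⁻¹' {η₀} from hgξ)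
    have h1 : z₀ ⤳ z := by
      rw [← (g.fiberι η₀).isEmbedding.isInducing.specializes_iff, hz₀]
      exact genericPoint_specializes _
    refine h1.mem_closed (hclosed η₀) ?_
    change (g.fiberι η₀).base z₀ ∈ Set.range j.base
    rw [hz₀]
    exact ((genericPoint_spec Xc).mem_open_set_iff j.isOpenEmbedding.isOpen_range).2
      (by simpa using ⟨j.base (Classical.arbitrary X), Classical.arbitrary X, rfl⟩)
  -- Stein factorisation
  let t := g.toNormalization
  let ν := g.fromNormalization
  have hν : t ≫ ν = g := g.toNormalization_fromNormalization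
  have : GeometricallyConnected t := GrothLib.Stein.geometricallyConnected_toNormalization g
  have : IsFinite ν := GrothLib.Stein.isFinite_fromNormalization g
  have hts : Function.Surjective t.base := t.surjective
  have hνinj : Function.Injective ν.base := by
    intro a b hab
    obtain ⟨V, hV, haV, -⟩ := exists_isAffineOpen_mem_and_subset (U := ⊤) (x := ν.base a) trivial
    let W := ν ⁻¹ᵁ V
    have hW : IsAffineOpen W := hV.preimage ν
    have : Nonempty V := ⟨⟨_, haV⟩⟩
    have : Nonempty W := ⟨⟨a, haV⟩⟩
    have : IsDomain Γ(Y, V) := IsIntegral.component_integral V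
    have : IsDomain Γ(g.normalization, W) := IsIntegral.component_integral W
    algebraize [(ν.app V).hom]
    have : IsIntegrallyClosed Γ(Y, V) := GrothLib.NormalExt.isIntegrallyClosed_Γ (fun x => (hY x).2) V hV
    have : Algebra.IsIntegral Γ(Y, V) Γ(g.normalization, W) :=
      algebraMap_isIntegral_iff.1 (IsIntegralHom.isIntegral_app ν V hV)
    have hinj : Function.Injective (algebraMap Γ(Y, V) Γ(g.normalization, W)) := by
      rw [injective_iff_map_eq_zero]
      intro r hr
      rw [← basicOpen_eq_bot_iff]
      refine bot_unique fun y hy => ?_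
      obtain ⟨x, hx⟩ := hne y
      have h1 : t.base (j.base x) ∈ ν ⁻¹ᵁ Y.basicOpen r := by
        change ν.base (t.base (j.base x)) ∈ Y.basicOpen r
        rw [← Scheme.Hom.comp_apply, hν, ← Scheme.Hom.comp_apply, hf, hx]
        exact hy
      rw [Scheme.preimage_basicOpen, show ν.app V r = 0 from hr, Scheme.basicOpen_zero] at h1
      exact h1.elim
    have hkey : ∀ (Ω : Type u) [Field Ω] [IsAlgClosed Ω] (φ ψ : Γ(g.normalization, W) →+* Ω),
        Function.Injective φ → Function.Injective ψ →
        φ.comp (algebraMap Γ(Y, V) Γ(g.normalization, W)) =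
          ψ.comp (algebraMap Γ(Y, V) Γ(g.normalization, W)) → φ = ψ := by
      intro Ω _ _ φ ψ hφ hψ he
      let pt (χ : Γ(g.normalization, W) →+* Ω) : Spec (CommRingCat.of Ω) ⟶ g.normalization :=
        Spec.map (CommRingCat.ofHom χ) ≫ hW.fromSpec
      let e₀ : Spec (CommRingCat.of Ω) ⟶ Y :=
        Spec.map (CommRingCat.ofHom (φ.comp (algebraMap Γ(Y, V) Γ(g.normalization, W)))) ≫ hV.fromSpec
      have hpt : ∀ χ : Γ(g.normalization, W) →+* Ω,
          χ.comp (algebraMap Γ(Y, V) Γ(g.normalization, W)) =
            φ.comp (algebraMap Γ(Y, V) Γ(g.normalization, W)) → pt χ ≫ ν = e₀ := by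
        intro χ hχ
        rw [Category.assoc, ← hV.SpecMap_appLE_fromSpec ν hW le_rfl, ← Spec.map_comp_assoc]
        congr 2
        apply CommRingCat.hom_ext
        rw [CommRingCat.hom_comp, CommRingCat.hom_ofHom, CommRingCat.hom_ofHom, ← hχ]
        congr 1
        rw [RingHom.algebraMap_toAlgebra, Scheme.Hom.app_eq_appLE]
      have he₀ : e₀.base default = η₀ := by
        have h0 : (Spec.map (CommRingCat.ofHom (φ.comp (algebraMap Γ(Y, V) Γ(g.normalization, W))))).base default =
            genericPoint (Spec Γ(Y, V)) := by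
          rw [genericPoint_eq_bot_of_affine]
          refine PrimeSpectrum.ext ?_
          have hd : ((default : Spec (CommRingCat.of Ω)) : PrimeSpectrum Ω).asIdeal = ⊥ :=
            (Ideal.eq_bot_or_top _).resolve_right (default : Spec (CommRingCat.of Ω)).isPrime.ne_top
          refine Eq.trans (congrArg (Ideal.comap (φ.comp (algebraMap Γ(Y, V) Γ(g.normalization, W)))) hd) ?_
          exact Ideal.comap_bot_of_injective _ (hφ.comp hinj)
        exact (Scheme.Hom.comp_apply _ _ _).trans ((congrArg hV.fromSpec.base h0).trans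
          (genericPoint_eq_of_isOpenImmersion hV.fromSpec))
      let Q := pullback ν e₀
      let T := pullback.fst ν e₀
      let R := pullback T (j ≫ t)
      let τ : pullback f e₀ ⟶ Q := pullback.lift (pullback.fst f e₀ ≫ j ≫ t) (pullback.snd f e₀) (by
        rw [Category.assoc, Category.assoc, hν, hf, pullback.condition])
      have hτ : Function.Surjective τ.base := by
        intro q
        have h1 : T.base q ∈ Set.range (j ≫ t).base := by
          obtain ⟨x, hx⟩ := hts (T.base q)
          have h2 : g.base x = η₀ := by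
            rw [← hν, Scheme.Hom.comp_apply, hx, ← Scheme.Hom.comp_apply, pullback.condition,
              Scheme.Hom.comp_apply, Subsingleton.elim ((pullback.snd ν e₀).base q) default, he₀]
          obtain ⟨x', rfl⟩ := hgen h2
          exact ⟨x', by rw [Scheme.Hom.comp_apply, hx]⟩
        obtain ⟨r, rfl⟩ := (Scheme.Pullback.range_fst T (j ≫ t)).ge h1
        let h : R ⟶ pullback f e₀ :=
          pullback.lift (pullback.snd T (j ≫ t)) (pullback.fst T (j ≫ t) ≫ pullback.snd ν e₀) (by
            have hfν : f = (j ≫ t) ≫ ν := by rw [Category.assoc, hν, hf]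
            rw [hfν, ← pullback.condition_assoc, Category.assoc, pullback.condition])
        have hh : h ≫ τ = pullback.fst T (j ≫ t) := by
          apply pullback.hom_ext
          · rw [Category.assoc, pullback.lift_fst, pullback.lift_fst_assoc, ← pullback.condition]
          · rw [Category.assoc, pullback.lift_snd, pullback.lift_snd]
        exact ⟨h.base r, by rw [← Scheme.Hom.comp_apply, hh]⟩
      have := hconn Ω e₀ he₀
      have : PreconnectedSpace Q := by
        refine ⟨?_⟩
        rw [← hτ.range_eq, ← Set.image_univ]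
        exact isPreconnected_univ.image _ τ.continuous.continuousOn
      have hsec := eq_of_sections (pullback.snd ν e₀)
        (a := pullback.lift (pt φ) (𝟙 _) (by rw [Category.id_comp, hpt φ rfl]))
        (b := pullback.lift (pt ψ) (𝟙 _) (by rw [Category.id_comp, hpt ψ he.symm]))
        (pullback.lift_snd _ _ _) (pullback.lift_snd _ _ _)
      have h3 := congrArg (· ≫ pullback.fst ν e₀) hsec
      simp only [pullback.lift_fst, pt] at h3
      exact congrArg CommRingCat.Hom.hom (Spec.map_injective ((cancel_mono hW.fromSpec).1 h3))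
    obtain ⟨pa, rfl⟩ : a ∈ Set.range hW.fromSpec.base := hW.range_fromSpec.ge haV
    obtain ⟨pb, rfl⟩ : b ∈ Set.range hW.fromSpec.base :=
      hW.range_fromSpec.ge (show ν.base b ∈ V from hab ▸ haV)
    refine congrArg _ (comap_injective hinj hkey (hV.fromSpec.isOpenEmbedding.injective ?_))
    have h4 := hV.SpecMap_appLE_fromSpec ν hW le_rfl
    rw [← Scheme.Hom.app_eq_appLE] at h4
    have h5 := fun p => congrArg (fun k => k.base p) h4
    exact (h5 pa).trans (hab.trans (h5 pb).symm)
  have hjsurj : Function.Surjective j.base := by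
    intro z
    let y := g.base z
    obtain ⟨x, hx⟩ := hne y
    have hxy : g.base (j.base x) = y := by rw [← Scheme.Hom.comp_apply, hf, hx]
    have hpre : g.base ⁻¹' {y} = t.base ⁻¹' {t.base z} := by
      ext w
      constructor
      · intro hw
        refine hνinj ?_
        rw [← Scheme.Hom.comp_apply, ← Scheme.Hom.comp_apply, hν]
        exact hw
      · intro hw
        change g.base w = g.base z
        rw [← hν, Scheme.Hom.comp_apply, Scheme.Hom.comp_apply, show t.base w = t.base z from hw]
    have hconn : _root_.IsPreconnected (Set.univ : Set (g.fiber y)) := by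
      rw [← (g.fiberι y).isEmbedding.isInducing.isPreconnected_image, Set.image_univ, g.range_fiberι]
      rw [hpre]
      exact (t.isConnected_preimage_singleton _).2
    have : PreconnectedSpace (g.fiber y) := ⟨hconn⟩
    obtain ⟨z₁, hz₁⟩ := (g.range_fiberι y).ge (show z ∈ g.base ⁻¹' {y} from rfl)
    obtain ⟨x₁, hx₁⟩ := (g.range_fiberι y).ge (show j.base x ∈ g.base ⁻¹' {y} from hxy)
    have hclopen : IsClopen ((g.fiberι y).base ⁻¹' Set.range j.base) :=
      ⟨hclosed y, j.isOpenEmbedding.isOpen_range.preimage (g.fiberι y).continuous⟩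
    have h6 := hclopen.eq_univ ⟨x₁, show (g.fiberι y).base x₁ ∈ Set.range j.base from hx₁ ▸ ⟨x, rfl⟩⟩
    have h7 : z₁ ∈ (g.fiberι y).base ⁻¹' Set.range j.base := h6 ▸ Set.mem_univ _
    rwa [Set.mem_preimage, hz₁] at h7
  have : Surjective j := ⟨hjsurj⟩
  have : IsIso j := (isIso_iff_isOpenImmersion_and_epi_base j).2
    ⟨inferInstance, (TopCat.epi_iff_surjective _).2 hjsurj⟩
  rw [← hf]
  infer_instance

end GrothLib.ProperFib19
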